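import Mathlib
import Groth.Agent.Lib.Helper21.ThickDict3

set_option autoImplicit false
set_option backward.isDefEq.respectTransparency.types false
set_option linter.style.haveILetI false
universe u
open CategoryTheory CategoryTheory.Limits AlgebraicGeometry Opposite TopologicalSpace

namespace Groth.Agent.Lib.Helper23.ThickEq

open Groth.Agent.Lib.Helper21.ThickDict

/-- Krull's intersection theorem in the form used here. -/
theorem exists_mul_eq_self {B : Type*} [CommRing B] [IsNoetherianRing B] (J : Ideal B) (d : B)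
    (hd : ∀ n : ℕ, d ∈ J ^ (n + 1)) : ∃ r ∈ J, r * d = d := by
  have h0 : d ∈ (⨅ i : ℕ, J ^ i • ⊤ : Submodule B B) := by
    rw [Submodule.mem_iInf]
    intro i
    have h1 : J ^ i • (⊤ : Submodule B B) = J ^ i := by
      rw [smul_eq_mul, Ideal.mul_top]
    rw [h1]
    exact Ideal.pow_le_pow_right (Nat.le_succ i) (hd i)
  obtain ⟨r, hr⟩ := (Ideal.mem_iInf_smul_pow_eq_bot_iff J d).mp h0
  exact ⟨r.1, r.2, hr⟩

/-- two ring homomorphisms out of an algebra which agree on the base ring and on a set of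
generators agree. -/
theorem ringHom_ext_of_adjoin {A C B : Type*} [CommRing A] [CommRing C] [CommRing B]
    (p : A →+* C) (α β : C →+* B) (hA : ∀ r, α (p r) = β (p r))
    (s : Set C) (hs : @Algebra.adjoin A C _ _ p.toAlgebra s = ⊤) (hgen : ∀ c ∈ s, α c = β c) :
    α = β := by
  letI := p.toAlgebra
  letI := (α.comp p).toAlgebra
  let α' : C →ₐ[A] B := { α with commutes' := fun r => rfl }
  let β' : C →ₐ[A] B := { β with commutes' := fun r => (hA r).symm }
  have : α' = β' := AlgHom.ext_of_adjoin_eq_top hs (fun c hc => hgen c hc)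
  ext c
  exact congr($this c)

variable {A : Type u} [CommRing A]

theorem appLE_congr_hom {Z Y : Scheme.{u}} (p q : Z ⟶ Y) (hpq : p = q) (V : Y.Opens) (W : Z.Opens)
    (e1 : W ≤ p ⁻¹ᵁ V) (e2 : W ≤ q ⁻¹ᵁ V) : p.appLE V W e1 = q.appLE V W e2 := by
  subst hpq; rfl

theorem phiU_comp_appLE {X Y : Scheme.{u}} (f : X ⟶ Spec (CommRingCat.of A))
    (h : Y ⟶ Spec (CommRingCat.of A)) (φ : X ⟶ Y) (hφ : φ ≫ h = f) (V : Y.Opens) (U : X.Opens)
    (e : U ≤ φ ⁻¹ᵁ V) (r : A) : φ.appLE V U e (phiU h V r) = phiU f U r := by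
  subst hφ
  show (((Scheme.ΓSpecIso (CommRingCat.of A)).inv ≫ h.appLE ⊤ V le_top) ≫ φ.appLE V U e) r =
    ((Scheme.ΓSpecIso (CommRingCat.of A)).inv ≫ (φ ≫ h).appLE ⊤ U le_top) r
  rw [Category.assoc, Scheme.Hom.appLE_comp_appLE]

/-- morphisms into an affine open are determined by their ring maps. -/
theorem ι_comp_eq_of_appLE_eq {X Y : Scheme.{u}} (φ ψ : X ⟶ Y) (V : Y.Opens) (hV : IsAffineOpen V)
    (D : X.Opens) (e1 : D ≤ φ ⁻¹ᵁ V) (e2 : D ≤ ψ ⁻¹ᵁ V)
    (hh : φ.appLE V D e1 = ψ.appLE V D e2) : D.ι ≫ φ = D.ι ≫ ψ := by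
  haveI : IsAffine V.toScheme := hV
  have h1 : φ.resLE V D e1 = ψ.resLE V D e2 := by
    apply ext_of_isAffine
    show (φ.resLE V D e1).app ⊤ = (ψ.resLE V D e2).app ⊤
    rw [Scheme.Hom.resLE_app_top, Scheme.Hom.resLE_app_top, hh]
  rw [← Scheme.Hom.resLE_comp_ι φ e1, ← Scheme.Hom.resLE_comp_ι ψ e2, h1]

/-- **local equality near the special fibre**. -/
theorem exists_open_eq [IsNoetherianRing A] (I : Ideal A) {X Y : Scheme.{u}}
    (f : X ⟶ Spec (CommRingCat.of A)) (h : Y ⟶ Spec (CommRingCat.of A))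
    [LocallyOfFiniteType f] [LocallyOfFiniteType h] (φ ψ : X ⟶ Y)
    (hφ : φ ≫ h = f) (hψ : ψ ≫ h = f)
    (e : ∀ n : ℕ, thickι (I ^ (n + 1)) f ≫ φ = thickι (I ^ (n + 1)) f ≫ ψ) (x : X)
    (hx : I ≤ (f x).asIdeal) : ∃ D : X.Opens, x ∈ D ∧ D.ι ≫ φ = D.ι ≫ ψ := by
  -- pointwise
  have hpt : φ x = ψ x := by
    obtain ⟨z, hz⟩ := exists_thickι_eq (I ^ (0 + 1)) f x (by rw [zero_add, pow_one]; exact hx)
    rw [← hz]
    have := congr($(e 0) z)
    simpa using this
  obtain ⟨V, hV, hxV, -⟩ := exists_isAffineOpen_mem_and_subset (X := Y) (x := φ x) (U := ⊤) trivial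
  have hx' : x ∈ φ ⁻¹ᵁ V ⊓ ψ ⁻¹ᵁ V := by
    refine ⟨hxV, ?_⟩
    show ψ x ∈ V
    rw [← hpt]; exact hxV
  obtain ⟨U, hU, hxU, hUsub⟩ := exists_isAffineOpen_mem_and_subset hx'
  have hUφ : U ≤ φ ⁻¹ᵁ V := fun y hy => (hUsub hy).1
  have hUψ : U ≤ ψ ⁻¹ᵁ V := fun y hy => (hUsub hy).2
  haveI : IsLocallyNoetherian X := LocallyOfFiniteType.isLocallyNoetherian f
  haveI : IsNoetherianRing Γ(X, U) := IsLocallyNoetherian.component_noetherian ⟨U, hU⟩
  set a := φ.appLE V U hUφ with ha_def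
  set b := ψ.appLE V U hUψ with hb_def
  set J : Ideal Γ(X, U) := Ideal.map (phiU f U) I with hJ
  have ha : ∀ r : A, a (phiU h V r) = phiU f U r := phiU_comp_appLE f h φ hφ V U hUφ
  have hb : ∀ r : A, b (phiU h V r) = phiU f U r := phiU_comp_appLE f h ψ hψ V U hUψ
  have hd : ∀ (c : Γ(Y, V)) (n : ℕ), a c - b c ∈ J ^ (n + 1) := by
    intro c n
    rw [hJ, ← Ideal.map_pow]
    apply mem_map_of_thickι_app_eq_zero _ f U hU
    rw [map_sub, sub_eq_zero]
    have h1 : a ≫ (thickι (I ^ (n + 1)) f).app U = b ≫ (thickι (I ^ (n + 1)) f).app U := by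
      rw [Scheme.Hom.app_eq_appLE, Scheme.Hom.appLE_comp_appLE, Scheme.Hom.appLE_comp_appLE]
      exact appLE_congr_hom _ _ (e n) _ _ _ _
    exact congr($h1 c)
  have hkr : ∀ c : Γ(Y, V), ∃ r ∈ J, r * (a c - b c) = a c - b c := fun c =>
    exists_mul_eq_self J _ (hd c)
  choose r hrJ hr using hkr
  have hft : (phiU h V).FiniteType := by
    have h1 : (h.appLE ⊤ V le_top).hom.FiniteType :=
      LocallyOfFiniteType.finiteType_appLE h (isAffineOpen_top _) hV le_top
    have h2 : ((Scheme.ΓSpecIso (CommRingCat.of A)).inv).hom.FiniteType :=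
      RingHom.FiniteType.of_surjective _ (ConcreteCategory.bijective_of_isIso _).2
    exact h1.comp h2
  obtain ⟨s, hs⟩ := hft
  set t : Γ(X, U) := ∏ c ∈ s, (1 - r c) with ht
  have ht1 : t - 1 ∈ J := by
    rw [ht]
    refine Finset.prod_induction (fun c => 1 - r c) (fun y => y - 1 ∈ J) ?_ ?_ ?_
    · intro y z hy hz
      have : y * z - 1 = y * (z - 1) + (y - 1) := by ring
      rw [this]
      exact J.add_mem (J.mul_mem_left _ hz) hy
    · simp
    · intro c _
      have : (1 - r c) - 1 = - r c := by ring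
      rw [this]
      exact J.neg_mem (hrJ c)
  have htd : ∀ c ∈ s, t * (a c - b c) = 0 := by
    intro c hc
    obtain ⟨k, hk⟩ := Finset.dvd_prod_of_mem (fun c => 1 - r c) hc
    rw [ht, hk]
    have : (1 - r c) * k * (a c - b c) = k * ((a c - b c) - r c * (a c - b c)) := by ring
    rw [this, hr c, sub_self, mul_zero]
  refine ⟨X.basicOpen t, ?_, ?_⟩
  · letI : X.Over (Spec (CommRingCat.of A)) := ⟨f⟩
    refine mem_basicOpen_of_sub_mem_map I U x hxU hx t 1 ht1 ?_
    rw [Scheme.basicOpen_of_isUnit _ isUnit_one]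
    exact hxU
  · have hDU : X.basicOpen t ≤ U := X.basicOpen_le t
    refine ι_comp_eq_of_appLE_eq φ ψ V hV (X.basicOpen t) (hDU.trans hUφ) (hDU.trans hUψ) ?_
    have e1 : φ.appLE V (X.basicOpen t) (hDU.trans hUφ) = a ≫ X.presheaf.map (homOfLE hDU).op :=
      (Scheme.Hom.appLE_map φ hUφ (homOfLE hDU).op).symm
    have e2 : ψ.appLE V (X.basicOpen t) (hDU.trans hUψ) = b ≫ X.presheaf.map (homOfLE hDU).op :=
      (Scheme.Hom.appLE_map ψ hUψ (homOfLE hDU).op).symm
    rw [e1, e2]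
    ext1
    refine ringHom_ext_of_adjoin (phiU h V) _ _ ?_ (s : Set Γ(Y, V)) hs ?_
    · intro q
      show (X.presheaf.map (homOfLE hDU).op) (a (phiU h V q)) =
        (X.presheaf.map (homOfLE hDU).op) (b (phiU h V q))
      rw [ha, hb]
    · intro c hc
      show (X.presheaf.map (homOfLE hDU).op) (a c) = (X.presheaf.map (homOfLE hDU).op) (b c)
      have hu : IsUnit (X.presheaf.map (homOfLE hDU).op t) := by
        exact RingedSpace.isUnit_res_basicOpen X.toRingedSpace t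
      have h0 : X.presheaf.map (homOfLE hDU).op t * X.presheaf.map (homOfLE hDU).op (a c - b c)
          = 0 := by
        rw [← map_mul, htd c hc, map_zero]
      have h1 := (hu.mul_right_eq_zero).mp h0
      rw [map_sub, sub_eq_zero] at h1
      exact h1

end Groth.Agent.Lib.Helper23.ThickEq
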