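import Mathlib
import Groth.Agent.Lib.Helper23.ThickEq.Local

set_option autoImplicit false
set_option backward.isDefEq.respectTransparency.types false
set_option linter.style.haveILetI false
universe u
open CategoryTheory CategoryTheory.Limits AlgebraicGeometry Opposite TopologicalSpace

namespace Groth.Agent.Lib.Helper23.ThickEq

open Groth.Agent.Lib.Helper21.ThickDict

variable {A : Type u} [CommRing A]

/-- **two morphisms over `A` from a scheme with closed structure map, agreeing on all thickenings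
along an ideal in the Jacobson radical, are equal.** -/
theorem eq_of_forall_thick [IsNoetherianRing A] (I : Ideal A) (hI : I ≤ (⊥ : Ideal A).jacobson)
    {X Y : Scheme.{u}} (f : X ⟶ Spec (CommRingCat.of A)) (h : Y ⟶ Spec (CommRingCat.of A))
    [LocallyOfFiniteType f] (hcl : IsClosedMap f) [LocallyOfFiniteType h] (φ ψ : X ⟶ Y)
    (hφ : φ ≫ h = f) (hψ : ψ ≫ h = f)
    (e : ∀ n : ℕ, thickι (I ^ (n + 1)) f ≫ φ = thickι (I ^ (n + 1)) f ≫ ψ) : φ = ψ := by
  have key : ∀ x : X, ∃ D : X.Opens, x ∈ D ∧ D.ι ≫ φ = D.ι ≫ ψ := by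
    let G : X.Opens := ⟨{x | ∃ D : X.Opens, x ∈ D ∧ D.ι ≫ φ = D.ι ≫ ψ}, by
      rw [isOpen_iff_forall_mem_open]
      rintro x ⟨D, hxD, hD⟩
      exact ⟨D, fun y hy => ⟨D, hy, hD⟩, D.2, hxD⟩⟩
    have hG : G = ⊤ := by
      rw [eq_top_iff]
      intro y _
      by_contra hy
      have hcl' : IsClosed (f '' ((G : Set X)ᶜ)) := hcl _ G.2.isClosed_compl
      obtain ⟨K, hK⟩ := (PrimeSpectrum.isClosed_iff_zeroLocus_ideal _).mp hcl'
      have hKne : K ≠ ⊤ := by
        intro hK'
        have h1 : f y ∈ f '' ((G : Set X)ᶜ) := ⟨y, hy, rfl⟩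
        rw [hK, hK'] at h1
        simp at h1
        exact h1
      obtain ⟨m, hm, hKm⟩ := Ideal.exists_le_maximal K hKne
      have h2 : (⟨m, hm.isPrime⟩ : PrimeSpectrum A) ∈ f '' ((G : Set X)ᶜ) := by
        rw [hK]; exact hKm
      obtain ⟨y', hy', hfy'⟩ := h2
      apply hy'
      apply exists_open_eq I f h φ ψ hφ hψ e y'
      have h3 : (f y').asIdeal = m := congrArg PrimeSpectrum.asIdeal hfy'
      rw [h3]
      exact hI.trans (sInf_le ⟨bot_le, hm⟩)
    intro x
    have hxG : x ∈ G := by rw [hG]; trivial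
    exact hxG
  choose D hxD hD using key
  have hcov : IsOpenCover D := by
    rw [IsOpenCover, eq_top_iff]
    intro x _
    exact Opens.mem_iSup.mpr ⟨x, hxD x⟩
  exact Scheme.Cover.hom_ext (X.openCoverOfIsOpenCover D hcov) φ ψ (fun x => hD x)

end Groth.Agent.Lib.Helper23.ThickEq
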